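import Groth.Agent.TotLinBun.Lift
import Mathlib.Topology.Sheaves.SheafCondition.UniqueGluing

/-! Invariant sections of the pulled back total space. -/

set_option autoImplicit false
set_option backward.isDefEq.respectTransparency false
set_option backward.isDefEq.respectTransparency.types false
set_option maxHeartbeats 1000000

universe u

open CategoryTheory CategoryTheory.Limits MonoidalCategory CartesianMonoidalCategory MonObj AlgebraicGeometry
  TopologicalSpace Opposite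

noncomputable section

namespace Groth.Agent.TotLinBun

open Groth.Agent Groth.Agent.InvX Groth.Agent.AmpleX

variable {S : Scheme.{u}} {X Y : Over S} {φ : X ⟶ Y} {M : Y.left.Modules} {A : RelSpec.QCAlg Y.left}
  {j : M ⟶ A.toModule}

/-- The local expression of a section of the `m`th power as a function. -/
def wfun (j : M ⟶ A.toModule) (m : ℕ) {U : Y.left.Opens} (e : Γ(M, U)) (c : Γ(Y.left, U)) :
    Γ(A.spec, A.π ⁻¹ᵁ U) :=
  A.π.app U c * ycoord j U e ^ m

theorem wfun_res (m : ℕ) {U V : Y.left.Opens} (h : V ≤ U) (e : Γ(M, U)) (c : Γ(Y.left, U)) :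
    A.spec.presheaf.map (homOfLE (A.π.preimage_mono h)).op (wfun j m e c) =
      wfun j m (AModX.res M h e) (AModX.resR h c) := by
  rw [wfun, map_mul, map_pow, ycoord_res j h]
  refine congrArg₂ (· * ·) ?_ rfl
  exact congr(($(A.π.naturality (homOfLE h).op)).hom c).symm

theorem wfun_eq (m : ℕ) {V : Y.left.Opens} {e e' : Γ(M, V)} (he : IsFrame e) (c c' : Γ(Y.left, V))
    (h : c • powElt e m = c' • powElt e' m) : wfun j m e c = wfun j m e' c' := by
  obtain ⟨v, hv⟩ := he.exists_coord le_rfl e'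
  rw [AModX.res_self] at hv
  subst hv
  rw [powElt_smul, ← mul_smul] at h
  have hc : c = c' * v ^ m := (isFrame_powElt he m).coord_unique le_rfl (by rw [AModX.res_self]; exact h)
  rw [wfun, wfun, ycoord_smul, hc, map_mul, map_pow, mul_pow, _root_.mul_assoc]

theorem exists_weightFn (hinv : PicF.IsInvertible M) (m : ℕ) (t : Γ(CohB1.tensorPow M m, ⊤)) :
    ∃ F : Γ(A.spec, ⊤), ∀ (U : Y.left.Opens) (e : Γ(M, U)) (_ : IsFrame e) (c : Γ(Y.left, U)),
      AModX.res _ (le_top : U ≤ ⊤) t = c • powElt e m →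
        A.spec.presheaf.map (homOfLE le_top).op F = wfun j m e c := by
  let I := {p : Σ U : Y.left.Opens, Γ(M, U) // IsFrame p.2}
  have hc : ∀ i : I, ∃ c : Γ(Y.left, i.1.1), AModX.res _ (le_top : i.1.1 ≤ ⊤) t = c • powElt i.1.2 m := fun i => by
    obtain ⟨c, h⟩ := (isFrame_powElt i.2 m).exists_coord le_rfl (AModX.res _ (le_top : i.1.1 ≤ ⊤) t)
    exact ⟨c, by rw [h, AModX.res_self]⟩
  choose c hc using hc
  have hcov : (⊤ : A.spec.Opens) ≤ ⨆ i : I, A.π ⁻¹ᵁ i.1.1 := fun z _ => by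
    obtain ⟨U, hzU, e, he⟩ := InvX.exists_frame hinv (A.π z)
    exact Opens.mem_iSup.2 ⟨⟨⟨U, e⟩, he⟩, hzU⟩
  have hcompat : TopCat.Presheaf.IsCompatible A.spec.sheaf.1 (fun i : I => A.π ⁻¹ᵁ i.1.1)
      (fun i => wfun j m i.1.2 (c i)) := by
    intro i i'
    refine ((wfun_res m inf_le_left i.1.2 (c i)).trans ?_).trans (wfun_res m inf_le_right i'.1.2 (c i')).symm
    refine wfun_eq m (i.2.res inf_le_left) _ _ ?_
    rw [← res_powElt, ← res_powElt, ← AModX.res_smul, ← AModX.res_smul, ← hc, ← hc, AModX.res_res, AModX.res_res]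
  obtain ⟨F, hF, -⟩ := A.spec.sheaf.existsUnique_gluing' (fun i : I => A.π ⁻¹ᵁ i.1.1) ⊤
    (fun i => homOfLE le_top) hcov (fun i => wfun j m i.1.2 (c i)) hcompat
  refine ⟨F, fun U e he c' h' => (hF ⟨⟨U, e⟩, he⟩).trans (congrArg (wfun j m e) ?_)⟩
  refine (isFrame_powElt he m).coord_unique le_rfl ?_
  rw [AModX.res_self]
  exact (hc ⟨⟨U, e⟩, he⟩).symm.trans h'

theorem appTop_res {Z W : Scheme.{u}} (f : Z ⟶ W) {U : W.Opens} {V : Z.Opens} (e : V ≤ f ⁻¹ᵁ U) (F : Γ(W, ⊤)) :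
    Z.presheaf.map (homOfLE le_top).op (f.appTop F) = f.appLE U V e (W.presheaf.map (homOfLE le_top).op F) := by
  rw [appLE_map_apply]
  rfl

variable (φ) in
/-- A function over the target, pulled back to the total space. -/
def pfun (F : Γ(A.spec, ⊤)) : Γ((Tot φ A).left, ⊤) := (totp φ A).left.appTop F

theorem isInvFn_pfun {G : Over S} [GrpObj G] (a : AlgGrp.Action G X) (hφ : GIT.IsInvariant a φ) (F : Γ(A.spec, ⊤)) :
    GLinSh.IsInvFn (totAction φ A a hφ) (pfun φ F) :=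
  congrArg (fun q : G ⊗ Tot φ A ⟶ base A => q.left.appTop F) (totAct_p φ A a hφ)

theorem resTop_pfun {U₀ : Y.left.Opens} {U : X.left.Opens} (h : U ≤ φ.left ⁻¹ᵁ U₀) (F : Γ(A.spec, ⊤)) :
    GLinSh.resTop (totπ φ A) U (pfun φ F) = pcoord h (A.spec.presheaf.map (homOfLE le_top).op F) :=
  appTop_res (totp φ A).left (le_preimage h) F

theorem resTop_eq {m : ℕ} {t : Γ(CohB1.tensorPow M m, ⊤)} {F : Γ(A.spec, ⊤)}
    (hF : ∀ (U : Y.left.Opens) (e : Γ(M, U)) (_ : IsFrame e) (c : Γ(Y.left, U)),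
      AModX.res _ (le_top : U ≤ ⊤) t = c • powElt e m →
        A.spec.presheaf.map (homOfLE le_top).op F = wfun j m e c)
    {U₀ : Y.left.Opens} {e : Γ(M, U₀)} (he : IsFrame e) {c : Γ(Y.left, U₀)}
    (hc : AModX.res _ (le_top : U₀ ≤ ⊤) t = c • powElt e m) {U : X.left.Opens} (h : U ≤ φ.left ⁻¹ᵁ U₀) :
    GLinSh.resTop (totπ φ A) U (pfun φ F) =
      (totπ φ A).left.app U (φ.left.appLE U₀ U h c) * pcoord h (ycoord j U₀ e) ^ m := by
  rw [resTop_pfun h, hF U₀ e he c hc, wfun, pcoord_mul, pcoord_pow, pcoord_app]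

theorem hasWeight_pfun {m : ℕ} {t : Γ(CohB1.tensorPow M m, ⊤)} {F : Γ(A.spec, ⊤)}
    (hF : ∀ (U : Y.left.Opens) (e : Γ(M, U)) (_ : IsFrame e) (c : Γ(Y.left, U)),
      AModX.res _ (le_top : U ≤ ⊤) t = c • powElt e m →
        A.spec.presheaf.map (homOfLE le_top).op F = wfun j m e c) :
    GLinSh.HasWeight (π := totπ φ A) (chart φ j) m (pfun φ F) := by
  intro U y hy
  obtain ⟨U₀, -, e, he, h, rfl⟩ := hy
  obtain ⟨c, hc⟩ := (isFrame_powElt he m).exists_coord le_rfl (AModX.res _ (le_top : U₀ ≤ ⊤) t)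
  rw [AModX.res_self] at hc
  exact ⟨_, resTop_eq hF he hc h⟩

theorem nonvanishing_pfun [IsAffineHom φ.left] (hM : Coh.IsQCoh M) (hinv : PicF.IsInvertible M)
    (hA : RelSpec.IsSymAlg M A j) {m : ℕ} (s : Coh.structureModule Y.left ⟶ CohB1.tensorPow M m) {F : Γ(A.spec, ⊤)}
    (hF : ∀ (U : Y.left.Opens) (e : Γ(M, U)) (_ : IsFrame e) (c : Γ(Y.left, U)),
      AModX.res _ (le_top : U ≤ ⊤) (InvX.one s) = c • powElt e m →
        A.spec.presheaf.map (homOfLE le_top).op F = wfun j m e c) :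
    GLinSh.nonvanishing (totπ φ A) (pfun φ F) = ((φ.left ⁻¹ᵁ CohB1.genLocus _ s : X.left.Opens) : Set X.left) := by
  refine Set.ext fun x => ?_
  obtain ⟨U₀, hU₀, e, he, hx₀⟩ := exists_chart_mem hinv (φ.left x)
  obtain ⟨c, hc⟩ := (isFrame_powElt he m).exists_coord le_rfl (AModX.res _ (le_top : U₀ ≤ ⊤) (InvX.one s))
  rw [AModX.res_self] at hc
  let U := φ.left ⁻¹ᵁ U₀
  let f := pfun φ F
  let y := pcoord (φ := φ) (U := U) le_rfl (ycoord j U₀ e)
  let cX := φ.left.appLE U₀ U le_rfl c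
  have hloc : φ.left x ∈ CohB1.genLocus _ s ↔ x ∈ X.left.basicOpen cX := by
    have h1 : CohB1.genLocus _ s ⊓ U₀ = Y.left.basicOpen c := genLocus_inf s (isFrame_powElt he m) hc
    rw [Scheme.basicOpen_appLE, ← h1]
    exact ⟨fun h => ⟨hx₀, h, hx₀⟩, fun h => h.2.1⟩
  have hD : (Tot φ A).left.basicOpen f ⊓ (totπ φ A).left ⁻¹ᵁ U =
      (totπ φ A).left ⁻¹ᵁ X.left.basicOpen cX ⊓ (Tot φ A).left.basicOpen (y ^ m) := by
    rw [Scheme.preimage_basicOpen, ← Scheme.basicOpen_mul, ← resTop_eq hF he hc (le_refl U), Scheme.basicOpen_res,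
      inf_comm]
  refine Iff.trans ?_ hloc.symm
  constructor
  · rintro ⟨v, hv, rfl⟩
    have h' : v ∈ (Tot φ A).left.basicOpen f ⊓ (totπ φ A).left ⁻¹ᵁ U := ⟨hv, hx₀⟩
    rw [hD] at h'
    exact h'.1
  · intro hx
    let T : Over S := Over.mk (X.left.fromSpecResidueField x ≫ X.hom)
    let xt : T ⟶ X := Over.homMk (X.left.fromSpecResidueField x) rfl
    haveI : IsAffine T.left := inferInstanceAs (IsAffine (Spec _))
    have hxt : ⊤ ≤ xt.left ⁻¹ᵁ U := fun z _ => by
      show X.left.fromSpecResidueField x z ∈ U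
      rw [Scheme.fromSpecResidueField_apply]
      exact hx₀
    obtain ⟨v, hv, hvU, hval⟩ := LinBunLib.exists_pt (π := totπ φ A)
      (MorphismProperty.pullback_fst φ.left A.π (inferInstanceAs (IsAffineHom A.π)))
      (hU₀.preimage φ.left) (le_refl U) (y := y) (chart_coord φ hM hA U y ⟨U₀, hU₀, e, he, le_rfl, rfl⟩) xt hxt 1
    let p : T.left := IsLocalRing.closedPoint (X.left.residueField x)
    have hp : (totπ φ A).left (v.left p) = x := by
      rw [← Scheme.Hom.comp_apply, ← Over.comp_left, hv]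
      exact Scheme.fromSpecResidueField_apply _ _
    have hy : v.left p ∈ (Tot φ A).left.basicOpen y := by
      have h1 : T.left.basicOpen (v.left.appLE _ ⊤ hvU y) = ⊤ := by
        rw [show v.left.appLE _ ⊤ hvU y = 1 from hval, Scheme.basicOpen_of_isUnit _ isUnit_one]
      rw [Scheme.basicOpen_appLE, top_inf_eq] at h1
      exact h1.ge (Opens.mem_top p)
    have hym : v.left p ∈ (Tot φ A).left.basicOpen (y ^ m) := by
      rw [Scheme.mem_basicOpen _ _ _ ((Tot φ A).left.basicOpen_le y hy), map_pow]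
      exact ((Scheme.mem_basicOpen _ _ _ ((Tot φ A).left.basicOpen_le y hy)).1 hy).pow m
    have h' : v.left p ∈ (totπ φ A).left ⁻¹ᵁ X.left.basicOpen cX ⊓ (Tot φ A).left.basicOpen (y ^ m) :=
      ⟨by show (totπ φ A).left (v.left p) ∈ X.left.basicOpen cX; rw [hp]; exact hx, hym⟩
    rw [← hD] at h'
    exact ⟨v.left p, h'.1, hp⟩

theorem closedOrbitsOn_of_isClosedAction {G : Over S} [GrpObj G] {a : AlgGrp.Action G X} (h : GIT.IsClosedAction a)
    (U : X.left.Opens) : GLinSh.ClosedOrbitsOn a U :=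
  fun Ω _ _ T i f _ => (h Ω T i f).preimage continuous_subtype_val

end Groth.Agent.TotLinBun
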