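import Groth.Agent.TotLinBun.Space
import Groth.Agent.LinBunLib.Points
import Groth.Agent.AmpleX.Extend
import Groth.Agent.H23.TrivBasic
import Groth.Prelude.Def_GLinSh

/-! The pulled back total space of an invertible module with its canonical linearisation. -/

set_option autoImplicit false
set_option linter.style.haveILetI false
set_option backward.isDefEq.respectTransparency false
set_option backward.isDefEq.respectTransparency.types false
set_option maxHeartbeats 1000000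

universe u

open CategoryTheory CategoryTheory.Limits MonoidalCategory CartesianMonoidalCategory MonObj AlgebraicGeometry
  TopologicalSpace Opposite

noncomputable section

namespace Groth.Agent.TotLinBun

open Groth.Agent Groth.Agent.InvX

theorem appLE_map_apply {Z W : Scheme.{u}} (f : Z ⟶ W) {V V' : W.Opens} {U : Z.Opens} (e : U ≤ f ⁻¹ᵁ V')
    (i : V' ≤ V) (z : Γ(W, V)) :
    f.appLE V' U e (W.presheaf.map (homOfLE i).op z) = f.appLE V U (e.trans (f.preimage_mono i)) z := by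
  rw [← CommRingCat.comp_apply, Scheme.Hom.map_appLE]

theorem appLE_comp_apply {T Z W : Scheme.{u}} (g : T ⟶ Z) (f : Z ⟶ W) {V : W.Opens} {U : Z.Opens} {O : T.Opens}
    (e₁ : U ≤ f ⁻¹ᵁ V) (e₂ : O ≤ g ⁻¹ᵁ U) (z : Γ(W, V)) :
    g.appLE U O e₂ (f.appLE V U e₁ z) = (g ≫ f).appLE V O (e₂.trans (g.preimage_mono e₁)) z := by
  rw [← CommRingCat.comp_apply, Scheme.Hom.appLE_comp_appLE]

theorem appLE_congr_hom {Z W : Scheme.{u}} {f g : Z ⟶ W} (h : f = g) (U : W.Opens) (V : Z.Opens) (e : V ≤ f ⁻¹ᵁ U) :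
    f.appLE U V e = g.appLE U V (h ▸ e) := by
  subst h; rfl

theorem appLE_congr_apply {Z W : Scheme.{u}} {f g : Z ⟶ W} (h : f = g) {U : W.Opens} {V : Z.Opens} (e : V ≤ f ⁻¹ᵁ U)
    (z : Γ(W, U)) : f.appLE U V e z = g.appLE U V (h ▸ e) z := by
  subst h; rfl

variable {S : Scheme.{u}} {X Y : Over S} (φ : X ⟶ Y) {M : Y.left.Modules} (A : RelSpec.QCAlg Y.left)

/-- The total space over the target. -/
def base : Over S := Over.mk (A.π ≫ Y.hom)

/-- Its projection. -/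
def baseπ : base A ⟶ Y := Over.homMk A.π rfl

/-- The pulled back total space. -/
def Tot : Over S := Over.mk (pullback.fst φ.left A.π ≫ X.hom)

/-- The projection. -/
def totπ : Tot φ A ⟶ X := Over.homMk (pullback.fst φ.left A.π) rfl

/-- The map to the total space over the target. -/
def totp : Tot φ A ⟶ base A := Over.homMk (pullback.snd φ.left A.π) (by
  show pullback.snd φ.left A.π ≫ A.π ≫ Y.hom = pullback.fst φ.left A.π ≫ X.hom
  rw [← pullback.condition_assoc, Over.w φ])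

theorem tot_condition : totπ φ A ≫ φ = totp φ A ≫ baseπ A :=
  Over.OverMorphism.ext pullback.condition

theorem isPullback_left : IsPullback (totπ φ A).left (totp φ A).left φ.left A.π :=
  IsPullback.of_hasPullback φ.left A.π

variable {φ A}

theorem tot_hom_ext {T : Over S} {u v : T ⟶ Tot φ A} (h₁ : u ≫ totπ φ A = v ≫ totπ φ A)
    (h₂ : u ≫ totp φ A = v ≫ totp φ A) : u = v :=
  Over.OverMorphism.ext (pullback.hom_ext (congrArg (·.left) h₁) (congrArg (·.left) h₂))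

variable (φ A)

/-- Maps into the pulled back total space. -/
def totLift {T : Over S} (u : T ⟶ X) (v : T ⟶ base A) (h : u ≫ φ = v ≫ baseπ A) : T ⟶ Tot φ A :=
  Over.homMk (pullback.lift u.left v.left (congrArg (·.left) h)) (by
    show pullback.lift u.left v.left _ ≫ pullback.fst φ.left A.π ≫ X.hom = T.hom
    rw [pullback.lift_fst_assoc, Over.w u])

theorem totLift_π {T : Over S} (u : T ⟶ X) (v : T ⟶ base A) (h : u ≫ φ = v ≫ baseπ A) :
    totLift φ A u v h ≫ totπ φ A = u :=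
  Over.OverMorphism.ext (pullback.lift_fst _ _ _)

theorem totLift_p {T : Over S} (u : T ⟶ X) (v : T ⟶ base A) (h : u ≫ φ = v ≫ baseπ A) :
    totLift φ A u v h ≫ totp φ A = v :=
  Over.OverMorphism.ext (pullback.lift_snd _ _ _)

section action

variable {G : Over S} [GrpObj G] (a : AlgGrp.Action G X) (hφ : GIT.IsInvariant a φ)
include hφ

/-- The lifted action morphism. -/
def totAct : G ⊗ Tot φ A ⟶ Tot φ A :=
  totLift φ A ((G ◁ totπ φ A) ≫ a.act) (snd G (Tot φ A) ≫ totp φ A) (by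
    rw [Category.assoc, hφ, whiskerLeft_snd_assoc, tot_condition, Category.assoc])

theorem totAct_π : totAct φ A a hφ ≫ totπ φ A = (G ◁ totπ φ A) ≫ a.act := totLift_π _ _ _ _ _

theorem totAct_p : totAct φ A a hφ ≫ totp φ A = snd G (Tot φ A) ≫ totp φ A := totLift_p _ _ _ _ _

/-- The lifted action. -/
def totAction : AlgGrp.Action G (Tot φ A) where
  act := totAct φ A a hφ
  one_act := by
    refine tot_hom_ext ?_ ?_
    · rw [Category.assoc, totAct_π, ← whisker_exchange_assoc, a.one_act]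
      simp
    · rw [Category.assoc, totAct_p, whiskerRight_snd_assoc, leftUnitor_hom]
  mul_act := by
    refine tot_hom_ext ?_ ?_
    · rw [Category.assoc, totAct_π, ← whisker_exchange_assoc, a.mul_act, associator_naturality_right_assoc]
      simp only [Category.assoc, totAct_π]
      rw [← MonoidalCategory.whiskerLeft_comp_assoc, ← MonoidalCategory.whiskerLeft_comp_assoc, totAct_π]
    · rw [Category.assoc, totAct_p]
      simp only [Category.assoc, totAct_p]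
      rw [whiskerLeft_snd_assoc, totAct_p]
      simp

end action

variable {φ A}

theorem le_preimage {U₀ : Y.left.Opens} {U : X.left.Opens} (h : U ≤ φ.left ⁻¹ᵁ U₀) :
    (totπ φ A).left ⁻¹ᵁ U ≤ (totp φ A).left ⁻¹ᵁ (A.π ⁻¹ᵁ U₀) := by
  refine ((totπ φ A).left.preimage_mono h).trans (le_of_eq ?_)
  show ((totπ φ A).left ≫ φ.left) ⁻¹ᵁ U₀ = ((totp φ A).left ≫ A.π) ⁻¹ᵁ U₀
  rw [(isPullback_left φ A).w]

/-- Functions over an open of the target, pulled back. -/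
def pcoord {U₀ : Y.left.Opens} {U : X.left.Opens} (h : U ≤ φ.left ⁻¹ᵁ U₀) (z : Γ(A.spec, A.π ⁻¹ᵁ U₀)) :
    Γ((Tot φ A).left, (totπ φ A).left ⁻¹ᵁ U) :=
  (totp φ A).left.appLE (A.π ⁻¹ᵁ U₀) ((totπ φ A).left ⁻¹ᵁ U) (le_preimage h) z

theorem res_pcoord {U₀ : Y.left.Opens} {U W : X.left.Opens} (h : U ≤ φ.left ⁻¹ᵁ U₀) (hW : W ≤ U)
    (z : Γ(A.spec, A.π ⁻¹ᵁ U₀)) : GLinSh.res (totπ φ A) hW (pcoord h z) = pcoord (hW.trans h) z := by
  simp only [GLinSh.res, pcoord, ← CommRingCat.comp_apply, Scheme.Hom.appLE_map]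

theorem pcoord_res {U₀ U₁ : Y.left.Opens} {U : X.left.Opens} (h : U ≤ φ.left ⁻¹ᵁ U₁) (hle : U₁ ≤ U₀)
    (z : Γ(A.spec, A.π ⁻¹ᵁ U₀)) :
    pcoord h (A.spec.presheaf.map (homOfLE (A.π.preimage_mono hle)).op z) =
      pcoord (h.trans (φ.left.preimage_mono hle)) z := by
  exact appLE_map_apply (totp φ A).left (le_preimage h) (A.π.preimage_mono hle) z

theorem pcoord_mul {U₀ : Y.left.Opens} {U : X.left.Opens} (h : U ≤ φ.left ⁻¹ᵁ U₀) (z z' : Γ(A.spec, A.π ⁻¹ᵁ U₀)) :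
    pcoord h (z * z') = pcoord h z * pcoord h z' := map_mul _ _ _

theorem pcoord_pow {U₀ : Y.left.Opens} {U : X.left.Opens} (h : U ≤ φ.left ⁻¹ᵁ U₀) (z : Γ(A.spec, A.π ⁻¹ᵁ U₀)) (n : ℕ) :
    pcoord h (z ^ n) = pcoord h z ^ n := map_pow _ _ _

theorem pcoord_app {U₀ : Y.left.Opens} {U : X.left.Opens} (h : U ≤ φ.left ⁻¹ᵁ U₀) (r : Γ(Y.left, U₀)) :
    pcoord h (A.π.app U₀ r) = (totπ φ A).left.app U (φ.left.appLE U₀ U h r) := by
  show ((A.π.app U₀) ≫ (totp φ A).left.appLE _ _ _) r = (φ.left.appLE U₀ U h ≫ (totπ φ A).left.app U) r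
  rw [Scheme.Hom.app_eq_appLE, Scheme.Hom.app_eq_appLE, Scheme.Hom.appLE_comp_appLE, Scheme.Hom.appLE_comp_appLE]
  exact appLE_congr_apply (isPullback_left φ A).w.symm _ r

variable (φ) (j : M ⟶ A.toModule)

/-- The admissible coordinates. -/
def chart (U : X.left.Opens) : Set Γ((Tot φ A).left, (totπ φ A).left ⁻¹ᵁ U) :=
  {y | ∃ (U₀ : Y.left.Opens) (_ : IsAffineOpen U₀) (e : Γ(M, U₀)) (_ : IsFrame e) (h : U ≤ φ.left ⁻¹ᵁ U₀),
    y = pcoord h (ycoord j U₀ e)}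

variable {j}

theorem exists_unit {U₀ U₁ : Y.left.Opens} {e : Γ(M, U₀)} (he : IsFrame e) {e' : Γ(M, U₁)} (he' : IsFrame e') :
    ∃ c : Γ(Y.left, U₀ ⊓ U₁), IsUnit c ∧
      AModX.res M (inf_le_right : U₀ ⊓ U₁ ≤ U₁) e' = c • AModX.res M inf_le_left e := by
  obtain ⟨c, hc⟩ := he.exists_coord inf_le_left (AModX.res M (inf_le_right : U₀ ⊓ U₁ ≤ U₁) e')
  obtain ⟨d, hd⟩ := he'.exists_coord inf_le_right (AModX.res M (inf_le_left : U₀ ⊓ U₁ ≤ U₀) e)
  refine ⟨c, IsUnit.of_mul_eq_one d ?_, hc⟩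
  refine he'.coord_unique inf_le_right ?_
  rw [mul_smul, ← hd, ← hc, one_smul]

theorem ycoord_unit {U₀ U₁ : Y.left.Opens} (e : Γ(M, U₀)) (e' : Γ(M, U₁)) (c : Γ(Y.left, U₀ ⊓ U₁))
    (h : AModX.res M (inf_le_right : U₀ ⊓ U₁ ≤ U₁) e' = c • AModX.res M inf_le_left e) :
    A.spec.presheaf.map (homOfLE (A.π.preimage_mono inf_le_right)).op (ycoord j U₁ e') =
      A.π.app (U₀ ⊓ U₁) c * A.spec.presheaf.map (homOfLE (A.π.preimage_mono inf_le_left)).op (ycoord j U₀ e) := by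
  rw [ycoord_res j inf_le_right, ycoord_res j inf_le_left, ← ycoord_smul, h]

theorem chart_linear (U U' : X.left.Opens) (y : Γ((Tot φ A).left, (totπ φ A).left ⁻¹ᵁ U))
    (y' : Γ((Tot φ A).left, (totπ φ A).left ⁻¹ᵁ U')) (hy : y ∈ chart φ j U) (hy' : y' ∈ chart φ j U') :
    ∃ c : Γ(X.left, U ⊓ U'), IsUnit c ∧
      GLinSh.res (totπ φ A) inf_le_right y' =
        (totπ φ A).left.app (U ⊓ U') c * GLinSh.res (totπ φ A) inf_le_left y := by
  obtain ⟨U₀, -, e, he, h, rfl⟩ := hy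
  obtain ⟨U₁, -, e', he', h', rfl⟩ := hy'
  obtain ⟨c, hc, hce⟩ := exists_unit he he'
  have hle : U ⊓ U' ≤ φ.left ⁻¹ᵁ (U₀ ⊓ U₁) := fun x hx => ⟨h hx.1, h' hx.2⟩
  refine ⟨φ.left.appLE _ _ hle c, hc.map _, ?_⟩
  rw [res_pcoord, res_pcoord, ← pcoord_app, ← pcoord_res hle inf_le_right, ← pcoord_res hle inf_le_left,
    ← pcoord_mul, ycoord_unit e e' c hce]

theorem chart_coord [IsAffineHom φ.left] (hM : Coh.IsQCoh M) (hA : RelSpec.IsSymAlg M A j) (U : X.left.Opens)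
    (y : Γ((Tot φ A).left, (totπ φ A).left ⁻¹ᵁ U)) (hy : y ∈ chart φ j U) : GLinSh.IsFibreCoord (totπ φ A) U y := by
  obtain ⟨U₀, hU₀, e, he, h, rfl⟩ := hy
  intro W hW hWU
  rw [res_pcoord]
  haveI : IsAffineHom (totπ φ A).left := MorphismProperty.pullback_fst φ.left A.π (inferInstanceAs (IsAffineHom A.π))
  exact bijective_eval₂_baseChange (isPullback_left φ A) hU₀ hW (hWU.trans h) (le_preimage (hWU.trans h))
    (ycoord j U₀ e) (bijective_eval₂_frame hM hA hU₀ he)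

theorem exists_chart_mem (hM : PicF.IsInvertible M) (y : Y.left) :
    ∃ (U₀ : Y.left.Opens) (_ : IsAffineOpen U₀) (e : Γ(M, U₀)), IsFrame e ∧ y ∈ U₀ := by
  obtain ⟨U₁, hy, e, he⟩ := InvX.exists_frame hM y
  obtain ⟨U₀, hU₀, hy₀, hle⟩ := exists_isAffineOpen_mem_and_subset (x := y) (U := U₁) hy
  exact ⟨U₀, hU₀, AModX.res M hle e, he.res hle, hy₀⟩

variable (j) in
/-- The linear atlas. -/
def atlas [IsAffineHom φ.left] (hinv : PicF.IsInvertible M) (hM : Coh.IsQCoh M) (hA : RelSpec.IsSymAlg M A j) :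
    GLinSh.LinAtlas (totπ φ A) where
  affine := MorphismProperty.pullback_fst φ.left A.π (inferInstanceAs (IsAffineHom A.π))
  chart := chart φ j
  cover x := by
    obtain ⟨U₀, hU₀, e, he, hx⟩ := exists_chart_mem hinv (φ.left x)
    exact ⟨φ.left ⁻¹ᵁ U₀, hx, _, U₀, hU₀, e, he, le_rfl, rfl⟩
  coord := chart_coord φ hM hA
  linear := chart_linear φ

theorem isLinearLift {G : Over S} [GrpObj G] (a : AlgGrp.Action G X) (hφ : GIT.IsInvariant a φ) :
    GLinSh.IsLinearLift a (totπ φ A) (totAction φ A a hφ) (chart φ j) (totAct_π φ A a hφ) := by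
  intro U U' y y' hy hy'
  obtain ⟨U₀, -, e, he, h, rfl⟩ := hy
  obtain ⟨U₁, -, e', he', h', rfl⟩ := hy'
  obtain ⟨c, -, hce⟩ := exists_unit he he'
  let B : (G ⊗ X).left.Opens := a.act.left ⁻¹ᵁ U' ⊓ (snd G X).left ⁻¹ᵁ U
  have hB : B ≤ (snd G X ≫ φ).left ⁻¹ᵁ (U₀ ⊓ U₁) := fun x hx => ⟨h hx.2, by
    show (snd G X ≫ φ).left x ∈ U₁
    rw [show (snd G X ≫ φ) = a.act ≫ φ from hφ.symm]
    exact h' hx.1⟩
  refine ⟨(snd G X ≫ φ).left.appLE _ B hB c, ?_⟩
  let O := GLinSh.liftOpen a (totπ φ A) U U'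
  have hp : (totAct φ A a hφ).left ≫ (totp φ A).left = (snd G (Tot φ A)).left ≫ (totp φ A).left :=
    congrArg (·.left) (totAct_p φ A a hφ)
  have hO : O ≤ ((snd G (Tot φ A)).left ≫ (totp φ A).left) ⁻¹ᵁ (A.π ⁻¹ᵁ (U₀ ⊓ U₁)) := by
    intro x hx
    refine ⟨le_preimage h (GLinSh.liftOpen_le_snd a (totπ φ A) hx), ?_⟩
    show ((snd G (Tot φ A)).left ≫ (totp φ A).left) x ∈ A.π ⁻¹ᵁ U₁
    rw [← hp]
    exact le_preimage h' (GLinSh.liftOpen_le_act a (totπ φ A) (totAction φ A a hφ) (totAct_π φ A a hφ) hx)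
  have h3 : (A.π.app (U₀ ⊓ U₁)) ≫ ((snd G (Tot φ A)).left ≫ (totp φ A).left).appLE _ O hO =
      (snd G X ≫ φ).left.appLE _ B hB ≫ (G ◁ totπ φ A).left.appLE B O (GLinSh.liftOpen_le_base a (totπ φ A)) := by
    rw [Scheme.Hom.app_eq_appLE, Scheme.Hom.appLE_comp_appLE, Scheme.Hom.appLE_comp_appLE]
    refine appLE_congr_hom ?_ _ _ _
    show (snd G (Tot φ A) ≫ totp φ A ≫ baseπ A).left = ((G ◁ totπ φ A) ≫ snd G X ≫ φ).left
    rw [whiskerLeft_snd_assoc, tot_condition]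
  let F := ((snd G (Tot φ A)).left ≫ (totp φ A).left).appLE (A.π ⁻¹ᵁ (U₀ ⊓ U₁)) O hO
  have e1 : ∀ (z' : Γ(A.spec, A.π ⁻¹ᵁ U₁)) (e₂ : O ≤ (totAct φ A a hφ).left ⁻¹ᵁ ((totπ φ A).left ⁻¹ᵁ U')),
      (totAct φ A a hφ).left.appLE _ O e₂ (pcoord h' z') =
        F (A.spec.presheaf.map (homOfLE (A.π.preimage_mono inf_le_right)).op z') := fun z' e₂ =>
    (appLE_comp_apply _ _ _ e₂ z').trans ((appLE_congr_apply hp _ z').trans
      (appLE_map_apply _ hO (A.π.preimage_mono inf_le_right) z').symm)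
  have e2 : ∀ (z : Γ(A.spec, A.π ⁻¹ᵁ U₀)) (e₂ : O ≤ (snd G (Tot φ A)).left ⁻¹ᵁ ((totπ φ A).left ⁻¹ᵁ U)),
      (snd G (Tot φ A)).left.appLE _ O e₂ (pcoord h z) =
        F (A.spec.presheaf.map (homOfLE (A.π.preimage_mono inf_le_left)).op z) := fun z e₂ =>
    (appLE_comp_apply _ _ _ e₂ z).trans (appLE_map_apply _ hO (A.π.preimage_mono inf_le_left) z).symm
  refine (e1 _ _).trans ?_
  rw [ycoord_unit e e' c hce]
  refine (map_mul F.hom _ _).trans (congrArg₂ (· * ·) ?_ (e2 _ _).symm)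
  exact congr(($h3).hom c)

end Groth.Agent.TotLinBun
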