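import Groth.Agent.VBundle.Pushout
import Groth.Agent.SymX.SymAlg
import Groth.Agent.RelSpecX.Gamma
import Groth.Agent.InvX.Frame
import Groth.Agent.S8270
import Groth.Agent.RingPO.Props2

/-! The total space of an invertible module and its fibre coordinates. -/

set_option autoImplicit false
set_option linter.style.haveILetI false
set_option backward.isDefEq.respectTransparency false
set_option backward.isDefEq.respectTransparency.types false
set_option maxHeartbeats 1000000

universe u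

open CategoryTheory CategoryTheory.Limits AlgebraicGeometry TopologicalSpace Opposite

noncomputable section

namespace Groth.Agent.TotLinBun

open Groth.Agent Groth.Agent.InvX

variable {Y : Scheme.{u}} {M : Y.Modules} {A : RelSpec.QCAlg Y} (j : M ⟶ A.toModule)

/-- A section of the module as a function on the total space. -/
def ycoord (U : Y.Opens) (x : Γ(M, U)) : Γ(A.spec, A.π ⁻¹ᵁ U) :=
  ((asIso A.gammaMap).inv.app (op U)).hom (j.app U x)

theorem gammaMap_ycoord (U : Y.Opens) (x : Γ(M, U)) :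
    (A.gammaMap.app (op U)).hom (ycoord j U x) = j.app U x :=
  congr(($((asIso A.gammaMap).inv_hom_id_app (op U))).hom (j.app U x))

theorem gammaMap_injective (U : Y.Opens) : Function.Injective (A.gammaMap.app (op U)).hom := fun a b h => by
  have ha := congr(($((asIso A.gammaMap).hom_inv_id_app (op U))).hom a)
  have hb := congr(($((asIso A.gammaMap).hom_inv_id_app (op U))).hom b)
  exact ha.symm.trans ((congrArg ((asIso A.gammaMap).inv.app (op U)).hom h).trans hb)

theorem gammaMap_π (U : Y.Opens) (r : Γ(Y, U)) :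
    (A.gammaMap.app (op U)).hom (A.π.app U r) = (A.str.app (op U)).hom r :=
  congr(($(NatTrans.congr_app A.π_c_gammaMap (op U))).hom r)

theorem ycoord_res {U V : Y.Opens} (h : V ≤ U) (x : Γ(M, U)) :
    A.spec.presheaf.map (homOfLE (A.π.preimage_mono h)).op (ycoord j U x) = ycoord j V (AModX.res M h x) := by
  apply gammaMap_injective
  rw [gammaMap_ycoord, AModX.app_res]
  have hn := congr(($(A.gammaMap.naturality (homOfLE h).op)).hom (ycoord j U x))
  refine hn.trans ?_
  show (A.presheaf.map (homOfLE h).op).hom ((A.gammaMap.app (op U)).hom (ycoord j U x)) = _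
  rw [gammaMap_ycoord]
  rfl

theorem ycoord_smul (U : Y.Opens) (r : Γ(Y, U)) (x : Γ(M, U)) :
    ycoord j U (r • x) = A.π.app U r * ycoord j U x := by
  apply gammaMap_injective
  rw [map_mul, gammaMap_ycoord, gammaMap_ycoord, gammaMap_π, Scheme.Modules.Hom.app_smul]
  rfl

variable {j}

/-- A frame gives a fibre coordinate. -/
theorem bijective_eval₂_frame (hM : Coh.IsQCoh M) (hA : RelSpec.IsSymAlg M A j) {W : Y.Opens} (hW : IsAffineOpen W)
    {e : Γ(M, W)} (he : IsFrame e) :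
    Function.Bijective (Polynomial.eval₂RingHom (A.π.app W).hom (ycoord j W e)) := by
  obtain ⟨E, hE0, hE1⟩ := SymX.exists_symEquiv hM hA ⟨W, hW⟩
  let l : Γ(M, W) ≃ₗ[Γ(Y, W)] Γ(Y, W) :=
    (LinearEquiv.ofBijective (LinearMap.toSpanSingleton Γ(Y, W) Γ(M, W) e) (by
      have := he W le_rfl
      rw [AModX.res_self] at this
      exact this)).symm
  have hle : l e = 1 := by
    apply l.symm.injective
    rw [l.symm_apply_apply]
    exact (one_smul _ e).symm
  let τ : SymmetricAlgebra Γ(Y, W) Γ(M, W) →ₐ[Γ(Y, W)] Polynomial Γ(Y, W) :=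
    SymmetricAlgebra.lift ((LinearMap.toSpanSingleton Γ(Y, W) (Polynomial Γ(Y, W)) Polynomial.X).comp l.toLinearMap)
  let σ : Polynomial Γ(Y, W) →ₐ[Γ(Y, W)] SymmetricAlgebra Γ(Y, W) Γ(M, W) :=
    Polynomial.aeval (SymmetricAlgebra.ι _ _ e)
  have hστ : σ.comp τ = AlgHom.id _ _ := SymmetricAlgebra.algHom_ext (LinearMap.ext fun x => by
    show σ (τ (SymmetricAlgebra.ι _ _ x)) = SymmetricAlgebra.ι _ _ x
    rw [SymmetricAlgebra.lift_ι_apply]
    show σ (l x • Polynomial.X) = _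
    rw [map_smul, show σ Polynomial.X = SymmetricAlgebra.ι _ _ e from Polynomial.aeval_X _, ← map_smul]
    congr 1
    exact l.symm_apply_apply x)
  have hτσ : τ.comp σ = AlgHom.id _ _ := Polynomial.algHom_ext (f := τ.comp σ) (g := AlgHom.id _ _) (by
    show τ (σ Polynomial.X) = Polynomial.X
    rw [show σ Polynomial.X = SymmetricAlgebra.ι _ _ e from Polynomial.aeval_X _, SymmetricAlgebra.lift_ι_apply]
    show l e • (Polynomial.X : Polynomial Γ(Y, W)) = Polynomial.X
    rw [hle, one_smul])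
  let E₀ := AlgEquiv.ofAlgHom σ τ hστ hτσ
  have key : (A.gammaMap.app (op W)).hom.comp (Polynomial.eval₂RingHom (A.π.app W).hom (ycoord j W e)) =
      E.toRingHom.comp E₀.toAlgHom.toRingHom := by
    refine Polynomial.ringHom_ext (fun r => ?_) ?_
    · show (A.gammaMap.app (op W)).hom (Polynomial.eval₂ _ _ (Polynomial.C r)) = E (σ (Polynomial.C r))
      rw [Polynomial.eval₂_C, ← Polynomial.algebraMap_eq, AlgHom.commutes]
      exact (gammaMap_π W r).trans (hE0 r).symm
    · show (A.gammaMap.app (op W)).hom (Polynomial.eval₂ _ _ Polynomial.X) = E (σ Polynomial.X)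
      rw [Polynomial.eval₂_X, gammaMap_ycoord, show σ Polynomial.X = SymmetricAlgebra.ι _ _ e from Polynomial.aeval_X _]
      exact (hE1 e).symm
  haveI : IsIso (A.gammaMap.app (op W)) :=
    ((asIso A.gammaMap).app (op W)).isIso_hom
  have hb : Function.Bijective ((A.gammaMap.app (op W)).hom.comp
      (Polynomial.eval₂RingHom (A.π.app W).hom (ycoord j W e))) := by
    rw [key]
    exact E.bijective.comp E₀.bijective
  exact (Function.Bijective.of_comp_iff' (ConcreteCategory.bijective_of_isIso (A.gammaMap.app (op W))) _).1 hb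

/-- Fibre coordinates after a change of base. -/
theorem bijective_eval₂_baseChange {Z Y' P : Scheme.{u}} {g : Y' ⟶ Y} {p : Z ⟶ Y} {p' : P ⟶ Y'} {c : P ⟶ Z}
    (hsq : IsPullback p' c g p) [IsAffineHom p] [IsAffineHom p'] {U : Y.Opens} (hU : IsAffineOpen U) {W : Y'.Opens}
    (hW : IsAffineOpen W) (hle : W ≤ g ⁻¹ᵁ U) (hle' : p' ⁻¹ᵁ W ≤ c ⁻¹ᵁ (p ⁻¹ᵁ U)) (y : Γ(Z, p ⁻¹ᵁ U))
    (hy : Function.Bijective (Polynomial.eval₂RingHom (p.app U).hom y)) :
    Function.Bijective (Polynomial.eval₂RingHom (p'.app W).hom (c.appLE (p ⁻¹ᵁ U) (p' ⁻¹ᵁ W) hle' y)) := by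
  have hpo := RingPO.isPushout_appLE_of_isPullback hsq hU hW hle (hU.preimage p) rfl (hW.preimage p') rfl hle'
  let a : Γ(Y, U) →+* Γ(Y', W) := (g.appLE U W hle).hom
  let E := RingEquiv.ofBijective _ hy
  let R₁ : Γ(Z, p ⁻¹ᵁ U) ⟶ CommRingCat.of (Polynomial Γ(Y', W)) :=
    CommRingCat.ofHom ((Polynomial.mapRingHom a).comp E.symm.toRingHom)
  let R₂ : Γ(Y', W) ⟶ CommRingCat.of (Polynomial Γ(Y', W)) := CommRingCat.ofHom Polynomial.C
  have hw : g.appLE U W hle ≫ R₂ = p.appLE U (p ⁻¹ᵁ U) le_rfl ≫ R₁ := by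
    ext r : 2
    show Polynomial.C (a r) = Polynomial.mapRingHom a (E.symm (p.appLE U (p ⁻¹ᵁ U) le_rfl r))
    rw [show p.appLE U (p ⁻¹ᵁ U) le_rfl r = E (Polynomial.C r) from by
      rw [← p.app_eq_appLE]; exact (Polynomial.eval₂_C (p.app U).hom y).symm,
      RingEquiv.symm_apply_apply, Polynomial.coe_mapRingHom, Polynomial.map_C]
  let d := hpo.desc R₂ R₁ hw
  let F := Polynomial.eval₂RingHom (p'.app W).hom (c.appLE (p ⁻¹ᵁ U) (p' ⁻¹ᵁ W) hle' y)
  have hdY : ∀ r, d.hom (p'.appLE W (p' ⁻¹ᵁ W) le_rfl r) = Polynomial.C r := fun r => congr(($(hpo.inl_desc R₂ R₁ hw)).hom r)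
  have hdZ : ∀ z, d.hom (c.appLE (p ⁻¹ᵁ U) (p' ⁻¹ᵁ W) hle' z) = Polynomial.mapRingHom a (E.symm z) := fun z =>
    congr(($(hpo.inr_desc R₂ R₁ hw)).hom z)
  have h1 : d.hom.comp F = RingHom.id _ := by
    refine Polynomial.ringHom_ext (fun r => ?_) ?_
    · show d.hom (Polynomial.eval₂ _ _ (Polynomial.C r)) = Polynomial.C r
      rw [Polynomial.eval₂_C, p'.app_eq_appLE]
      exact hdY r
    · show d.hom (Polynomial.eval₂ _ _ Polynomial.X) = Polynomial.X
      rw [Polynomial.eval₂_X, hdZ, show y = E Polynomial.X from (Polynomial.eval₂_X (p.app U).hom y).symm,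
        RingEquiv.symm_apply_apply, Polynomial.coe_mapRingHom, Polynomial.map_X]
  have h2 : d ≫ CommRingCat.ofHom F = 𝟙 _ := by
    refine hpo.hom_ext ?_ ?_
    · ext r : 2
      show F (d.hom (p'.appLE W (p' ⁻¹ᵁ W) le_rfl r)) = p'.appLE W (p' ⁻¹ᵁ W) le_rfl r
      rw [hdY, ← p'.app_eq_appLE]
      exact Polynomial.eval₂_C _ _
    · ext z : 2
      show F (d.hom (c.appLE (p ⁻¹ᵁ U) (p' ⁻¹ᵁ W) hle' z)) = c.appLE (p ⁻¹ᵁ U) (p' ⁻¹ᵁ W) hle' z
      rw [hdZ]
      obtain ⟨q, rfl⟩ := E.surjective z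
      rw [RingEquiv.symm_apply_apply]
      show Polynomial.eval₂ _ _ (Polynomial.map a q) = (c.appLE (p ⁻¹ᵁ U) (p' ⁻¹ᵁ W) hle').hom (Polynomial.eval₂ _ _ q)
      rw [Polynomial.eval₂_map, Polynomial.hom_eval₂]
      congr 1
      show (g.appLE U W hle ≫ p'.app W).hom = (p.app U ≫ c.appLE (p ⁻¹ᵁ U) (p' ⁻¹ᵁ W) hle').hom
      rw [p.app_eq_appLE, p'.app_eq_appLE]
      exact congrArg CommRingCat.Hom.hom hpo.w
  exact Function.bijective_iff_has_inverse.2 ⟨d.hom, fun q => RingHom.congr_fun h1 q, fun z => congr(($h2).hom z)⟩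

end Groth.Agent.TotLinBun
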